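import Cfsg.Agent.OrthPrimeClasses.Classes
import Cfsg.Agent.LinAlg.Witt.Mat

/-!
Elliptic and hyperbolic blocks with prescribed characteristic polynomial.
-/

set_option autoImplicit false
set_option linter.unusedSectionVars false

namespace CfsgLib.OrthPrimeClasses

open Polynomial Module Cfsg.Geo CfsgLib.Classical.Semisimple CfsgLib.Spec53 CfsgLib.SelfDualCount
  CfsgLib.Classical.Orth
open scoped _root_.Classical Matrix

variable {F : Type*} [Field F]

/-- The square function. -/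
def sqForm : F → F := fun x => x ^ 2

/-- Regrouping of the coordinates. -/
def pairSplit (m : ℕ) : (Fin m ⊕ Fin m → F) ≃ₗ[F] (Fin m → F) × (Fin m → F) :=
  LinearEquiv.sumArrowLequivProdArrow (Fin m) (Fin m) F F

theorem similar_plus (m : ℕ) : Similar (hyp m) (Cfsg.quadFormPlus m F) :=
  (Similar.of_equiv (pairSplit m) fun v => by
    simp [pairSplit, hyp, Cfsg.quadFormPlus, dotProduct]).symm

theorem similar_minus (m : ℕ) (a c : F) :
    Similar (osum (hyp m) (binForm a c)) (Cfsg.quadFormMinus m F a c) :=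
  (Similar.of_equiv ((LinearEquiv.sumArrowLequivProdArrow (Fin m ⊕ Fin m) (Fin 2) F F).trans
    ((pairSplit m).prodCongr (LinearEquiv.refl F _))) fun v => by
      simp [pairSplit, hyp, osum, Cfsg.quadFormMinus, binForm, dotProduct]).symm

theorem similar_odd (m : ℕ) : Similar (osum sqForm (hyp m)) (Cfsg.quadFormOdd m F) :=
  (Similar.of_equiv ((LinearEquiv.sumArrowLequivProdArrow Unit (Fin m ⊕ Fin m) F F).trans
    ((LinearEquiv.funUnique Unit F F).prodCongr (pairSplit m))) fun v => by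
      simp [pairSplit, hyp, osum, sqForm, Cfsg.quadFormOdd, dotProduct]).symm

theorem similar_absorb {V : Type*} [AddCommGroup V] [Module F V] (R : V → F) (k l : ℕ) :
    Similar (osum (osum R (hyp k)) (hyp l)) (osum R (hyp (k + l))) :=
  (similar_assoc _ _ _).trans ((similar_hyp_add k l).sum_right R)

/-- An anisotropic plane and a line make a hyperbolic plane and a line. -/
theorem similar_plane_line {a c : F} (h2 : (2 : F) ≠ 0) (hd : 4 * c - a ^ 2 ≠ 0) :
    Similar (osum (binForm a c) fun w : F => -(c - (a / 2) ^ 2) * w ^ 2) (osum sqForm (hyp 1)) := by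
  set d := c - (a / 2) ^ 2 with hd'
  have hd0 : d ≠ 0 := fun h => hd (by rw [hd'] at h; field_simp at h; linear_combination h)
  let e : ((Fin 2 → F) × F) →ₗ[F] F × ((Fin 1 → F) × (Fin 1 → F)) :=
    { toFun := fun v => (v.1 0 + a / 2 * v.1 1, (fun _ => d * (v.1 1 - v.2), fun _ => v.1 1 + v.2))
      map_add' := fun v w => by
        refine Prod.ext ?_ (Prod.ext (funext fun _ => ?_) (funext fun _ => ?_)) <;> simp <;> ring
      map_smul' := fun t v => by
        refine Prod.ext ?_ (Prod.ext (funext fun _ => ?_) (funext fun _ => ?_)) <;> simp <;> ring }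
  have hinj : Function.Injective e := by
    rw [injective_iff_map_eq_zero]
    rintro ⟨z, w⟩ h0
    have e0 : z 0 + a / 2 * z 1 = 0 := congrArg Prod.fst h0
    have e1 : d * (z 1 - w) = 0 := congrFun (congrArg (fun v => v.2.1) h0) 0
    have e2 : z 1 + w = 0 := congrFun (congrArg (fun v => v.2.2) h0) 0
    have e3 : z 1 - w = 0 := (mul_eq_zero.1 e1).resolve_left hd0
    have hz1 : z 1 = 0 := mul_left_cancel₀ h2 (by linear_combination e2 + e3)
    refine Prod.ext (funext fun j => ?_) (show w = 0 by linear_combination e2 - hz1)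
    fin_cases j
    · show z 0 = 0
      linear_combination e0 - (a / 2) * hz1
    · exact hz1
  refine Similar.of_equiv (LinearEquiv.ofBijective e ⟨hinj,
    (LinearMap.injective_iff_surjective_of_finrank_eq_finrank (by simp)).1 hinj⟩) fun v => ?_
  show osum sqForm (hyp 1) (e v) = _
  simp only [osum, sqForm, hyp, dotProduct, binForm, e, LinearMap.coe_mk, AddHom.coe_mk,
    Fin.sum_univ_one, hd']
  field_simp
  ring

variable [Fintype F]

/-- Some monic quadratic has no root. -/
theorem exists_aniso : ∃ a c : F,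
    ∀ z₁ z₂ : F, z₁ ^ 2 + a * z₁ * z₂ + c * z₂ ^ 2 = 0 → z₁ = 0 ∧ z₂ = 0 := by
  have hns : ¬ Function.Surjective fun p : F × F => (p.1 + p.2, p.1 * p.2) := fun hs => by
    have h := (Finite.injective_iff_surjective.2 hs) (a₁ := (0, 1)) (a₂ := (1, 0)) (by simp)
    exact zero_ne_one (congrArg Prod.fst h)
  simp only [Function.Surjective, not_forall, not_exists] at hns
  obtain ⟨⟨s, π⟩, hsp⟩ := hns
  refine ⟨-s, π, fun z₁ z₂ h => ?_⟩
  rcases eq_or_ne z₂ 0 with rfl | h2
  · exact ⟨(pow_eq_zero_iff two_ne_zero).1 (by linear_combination h), rfl⟩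
  · refine absurd (Prod.ext ?_ ?_) (hsp (z₁ / z₂, s - z₁ / z₂))
    · show z₁ / z₂ + (s - z₁ / z₂) = s
      ring
    · show z₁ / z₂ * (s - z₁ / z₂) = π
      field_simp
      linear_combination -h

theorem exists_double_of_finrank {ι : Type} [Fintype ι] [DecidableEq ι] {Q : (ι → F) → F}
    (hQ : IsNondegenerateQuadraticForm Q) {n : ℕ} (hn : Fintype.card ι = n) :
    Similar (osum Q fun v => -Q v) (hyp n) := by
  obtain ⟨e, he⟩ := exists_double (LinAlg.Witt.quadOfFun Q hQ.smul hQ.polar_bilinear) fun v hv => by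
    by_contra h0
    obtain ⟨-, x, hx⟩ := hQ.nondegenerate v h0
    exact hx (hv x)
  have hn' : finrank F (ι → F) = n := by rw [finrank_fintype_fun_eq_card, hn]
  subst hn'
  exact Similar.of_equiv e fun v => he v

/-- The extended elliptic space is hyperbolic. -/
theorem similar_minus_neg_plane {a c : F}
    (hac : ∀ z₁ z₂ : F, z₁ ^ 2 + a * z₁ * z₂ + c * z₂ ^ 2 = 0 → z₁ = 0 ∧ z₂ = 0) (k : ℕ) :
    Similar (osum (Cfsg.quadFormMinus k F a c) fun v => -binForm a c v) (hyp (k + 2)) :=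
  ((((similar_minus k a c).symm.sum_left (fun v => -binForm a c v)).trans (similar_assoc _ _ _)).trans
    ((exists_double_of_finrank (isNondegQF_binForm a c hac) (n := 2) (by simp)).sum_right _)).trans
    (similar_hyp_add k 2)

theorem HasElt.neg {V : Type*} [AddCommGroup V] [Module F V] [FiniteDimensional F V] {r : ℕ}
    {Q : V → F} {χ : F[X]} (h : HasElt r Q χ) : HasElt r (fun v => -Q v) χ := by
  obtain ⟨f, hf, h'⟩ := h
  exact ⟨f, fun v => by simp [hf], h'⟩

variable {r : ℕ} [hr : Fact r.Prime] {i : ℕ}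

/-- An elliptic space of dimension `i` has isometries with every orbit polynomial. -/
theorem hasElt_elliptic (hrF : (r : F) ≠ 0) (hi : i = orderOf (Fintype.card F : ZMod r)) {a c : F}
    (hac : ∀ z₁ z₂ : F, z₁ ^ 2 + a * z₁ * z₂ + c * z₂ ^ 2 = 0 → z₁ = 0 ∧ z₂ = 0) {k : ℕ}
    (hk : i = 2 * (k + 1)) {T : F[X]} (hT : T ∈ orbitPolys F r) :
    HasElt r (Cfsg.quadFormMinus k F a c) T := by
  have hQ := isNondegQF_quadFormMinus (F := F) k a c hac
  have hdvd : r ∣ Nat.card ↥(Cfsg.isometryGroup F (Cfsg.quadFormMinus k F a c)) := by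
    rw [card_isometryGroup_minus a c hac k]
    refine Dvd.dvd.mul_right (Dvd.dvd.mul_left ?_ _) _
    rw [← ZMod.natCast_eq_zero_iff, Nat.cast_add, Nat.cast_pow, Nat.cast_one,
      show k + 1 = i / 2 by omega, pow_half_eq_neg_one hrF hi ⟨k + 1, by omega⟩, neg_add_cancel]
  obtain ⟨g, hg⟩ := exists_prime_orderOf_dvd_card' r hdvd
  have hgr : g ^ r = 1 := by rw [← hg]; exact pow_orderOf_eq_one g
  set A := ((g : GL ((Fin k ⊕ Fin k) ⊕ Fin 2) F) :
    Matrix ((Fin k ⊕ Fin k) ⊕ Fin 2) ((Fin k ⊕ Fin k) ⊕ Fin 2) F) with hA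
  have hAr : A ^ r = 1 := coe_pow_eq_one hgr
  have hpow : (Matrix.toLin' A : Module.End F _) ^ r = 1 := by
    rw [← Matrix.toLin'_pow, hAr, Matrix.toLin'_one]; rfl
  have hdeg : ∀ S ∈ orbitPolys F r, S.natDegree = i := fun S hS => by
    rw [natDegree_of_dvd_cyclotomic hrF ((mem_orbitPolys S).1 hS).1 ((mem_orbitPolys S).1 hS).2.2, hi]
  have hcdeg : A.charpoly.natDegree = i := by
    rw [Matrix.charpoly_natDegree_eq_dim, hk]; simp; omega
  obtain ⟨f₀, hf₀, hf₀d⟩ : ∃ f₀ ∈ orbitPolys F r, f₀ ∣ A.charpoly := by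
    by_contra hno
    push Not at hno
    have h1 := aeval_eq_zero_of_forall_dvd (isSemisimple_of_pow_eq_one hrF hpow) (Q := X - 1)
      (fun P hP hPm hd => by
        rw [Matrix.charpoly_toLin'] at hd
        rcases orbit_or_X_sub_one hP hPm (factor_dvd hrF hAr hP hPm hd) with rfl | hPo
        · exact dvd_rfl
        · exact absurd hd (hno P hPo))
    simp only [map_sub, aeval_X, map_one, sub_eq_zero] at h1
    have h2 : g = 1 := Subtype.ext (Units.ext (Matrix.toLin'.injective (h1.trans Matrix.toLin'_one.symm)))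
    rw [h2, orderOf_one] at hg
    exact hr.out.ne_one hg.symm
  have hAc : A.charpoly = f₀ :=
    (eq_of_monic_of_dvd_of_natDegree_le ((mem_orbitPolys f₀).1 hf₀).2.1 (Matrix.charpoly_monic A) hf₀d
      (by rw [hcdeg, hdeg f₀ hf₀]))
  haveI := Fact.mk ((mem_orbitPolys f₀).1 hf₀).1
  set E := AdjoinRoot f₀
  haveI : NeZero (r : E) := ⟨by rw [← map_natCast (algebraMap F E)]; exact (_root_.map_ne_zero _).2 hrF⟩
  set ζ : E := AdjoinRoot.root f₀
  have hζf : aeval ζ f₀ = 0 := by rw [AdjoinRoot.aeval_eq]; exact AdjoinRoot.mk_self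
  have hζ : IsPrimitiveRoot ζ r := by
    rw [← Polynomial.isRoot_cyclotomic_iff, IsRoot.def, ← map_cyclotomic r (algebraMap F E),
      eval_map, ← aeval_def]
    obtain ⟨d, hd⟩ := ((mem_orbitPolys f₀).1 hf₀).2.2
    rw [hd, map_mul, hζf, zero_mul]
  obtain ⟨hTi, hTm, hTc⟩ := (mem_orbitPolys T).1 hT
  have hTdvd : T.map (algebraMap F E) ∣ X ^ r - 1 := by
    have h1 := Polynomial.map_dvd (algebraMap F E) (dvd_X_pow_of_mem_orbit hT)
    rwa [Polynomial.map_sub, Polynomial.map_pow, map_X, Polynomial.map_one] at h1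
  obtain ⟨y, hy⟩ := ((X_pow_sub_one_splits hζ).of_dvd
    (X_pow_sub_C_ne_zero hr.out.pos (1 : E) |> fun h => by rwa [C_1] at h) hTdvd).exists_eval_eq_zero
    (by
      rw [degree_map]
      exact (degree_pos_of_irreducible hTi).ne')
  have hyr : y ^ r = 1 := by
    obtain ⟨d, hd⟩ := hTdvd
    have := congrArg (Polynomial.eval y) hd
    rw [eval_mul, hy, zero_mul] at this
    simpa [sub_eq_zero] using this
  obtain ⟨j, -, hj⟩ := hζ.eq_pow_of_pow_eq_one hyr
  have hf₀T : f₀ ∣ T.comp (X ^ j) := by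
    rw [minpoly.eq_of_irreducible_of_monic ((mem_orbitPolys f₀).1 hf₀).1 hζf
      ((mem_orbitPolys f₀).1 hf₀).2.1]
    refine minpoly.dvd F ζ ?_
    rw [aeval_comp, map_pow, aeval_X, hj, aeval_def, ← eval_map, hy]
  have hzero : aeval (A ^ j) T = 0 := by
    obtain ⟨d, hd⟩ := hf₀T
    have h1 := congrArg (aeval A) hd
    rw [aeval_comp, map_pow, aeval_X, map_mul, ← hAc, Matrix.aeval_self_charpoly, zero_mul] at h1
    exact h1
  have hne : Nontrivial (Matrix ((Fin k ⊕ Fin k) ⊕ Fin 2) ((Fin k ⊕ Fin k) ⊕ Fin 2) F) := inferInstance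
  have hmin : minpoly F (A ^ j) = T :=
    (minpoly.eq_of_irreducible_of_monic hTi hzero hTm).symm
  have hgj : ((g ^ j : ↥(Cfsg.isometryGroup F (Cfsg.quadFormMinus k F a c))) :
      GL ((Fin k ⊕ Fin k) ⊕ Fin 2) F).val.charpoly = T := by
    rw [SubgroupClass.coe_pow, Units.val_pow_eq_pow_val, ← hA]
    refine eq_of_monic_of_dvd_of_natDegree_le hTm (Matrix.charpoly_monic _) ?_ ?_
    · rw [← hmin]; exact Matrix.minpoly_dvd_charpoly _
    · rw [Matrix.charpoly_natDegree_eq_dim, ← Matrix.charpoly_natDegree_eq_dim A, hcdeg, hdeg T hT]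
  rw [← hgj]
  exact hasElt_of_mem (by rw [← pow_mul, mul_comm, pow_mul, hgr, one_pow])

end CfsgLib.OrthPrimeClasses
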