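import Cfsg.Agent.OrthPrimeClasses.Forms
import Cfsg.Agent.Classical.Orth.OddConj
import Cfsg.Agent.Classical.Orth.OrderStd

/-!
Classes of isometries of odd prime order `r` and their characteristic polynomials.
-/

set_option autoImplicit false
set_option linter.unusedSectionVars false

namespace CfsgLib.OrthPrimeClasses

open Polynomial Module Cfsg.Geo CfsgLib.OrthGeo CfsgLib.Classical.Semisimple CfsgLib.Spec53
  CfsgLib.SelfDualCount
open scoped _root_.Classical Matrix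

variable {F : Type*} [Field F] [Fintype F] {r : ℕ} [hr : Fact r.Prime]
variable {ι : Type} [Fintype ι] [DecidableEq ι] {Q : (ι → F) → F}

theorem natCast_ne_zero_of_ne {p : ℕ} [Fact p.Prime] [CharP F p] (hrp : r ≠ p) : (r : F) ≠ 0 :=
  fun h => hrp ((Nat.prime_dvd_prime_iff_eq (Fact.out : p.Prime) hr.out).mp
    ((CharP.cast_eq_zero_iff F p r).mp h)).symm

theorem coe_pow_eq_one {g : ↥(Cfsg.isometryGroup F Q)} (hg : g ^ r = 1) :
    ((g : GL ι F) : Matrix ι ι F) ^ r = 1 := by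
  rw [← Units.val_pow_eq_pow_val, ← SubgroupClass.coe_pow, hg]; rfl

theorem factor_dvd {A : Matrix ι ι F} (hrF : (r : F) ≠ 0) (hA : A ^ r = 1) {P : F[X]}
    (hP : Irreducible P) (hPm : P.Monic) (hd : P ∣ A.charpoly) : P ∣ X ^ r - 1 := by
  have hpow : (Matrix.toLin' A : Module.End F (ι → F)) ^ r = 1 := by
    rw [← Matrix.toLin'_pow, hA, Matrix.toLin'_one]; rfl
  obtain ⟨v, hv, hv0⟩ := exists_apply_eq_zero_of_dvd_charpoly
    (isSemisimple_of_pow_eq_one hrF hpow) hP hPm (by rwa [Matrix.charpoly_toLin'])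
  by_contra hnd
  obtain ⟨a, b, hab⟩ := hP.coprime_iff_not_dvd.mpr hnd
  have := congrArg (fun T => aeval (Matrix.toLin' A : Module.End F (ι → F)) T v) hab
  simp [hv0, hpow] at this
  exact hv this.symm

theorem conjRecip_charpoly_isometry (hQ : IsNondegenerateQuadraticForm Q) {g : GL ι F}
    (hg : g ∈ Cfsg.isometryGroup F Q) :
    conjRecip (RingHom.id F) (g : Matrix ι ι F).charpoly = (g : Matrix ι ι F).charpoly := by
  set J : Matrix ι ι F := LinearMap.toMatrix₂' F (bform hQ) with hJ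
  have hJg : (g : Matrix ι ι F)ᵀ * J * (g : Matrix ι ι F) = J := by
    ext a b
    have h := isometry_b hQ hg (Pi.single a 1) (Pi.single b 1)
    rw [← Matrix.toLin'_apply, ← Matrix.toLin'_apply] at h
    have h2 := LinearMap.toMatrix₂'_compl₁₂ (bform hQ) (Matrix.toLin' (g : Matrix ι ι F))
      (Matrix.toLin' (g : Matrix ι ι F))
    rw [LinearMap.toMatrix'_toLin'] at h2
    rw [hJ, ← h2, LinearMap.toMatrix₂'_apply, LinearMap.compl₁₂_apply, h, LinearMap.toMatrix₂'_apply]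
  have hJu : IsUnit J.det := isUnit_iff_ne_zero.2
    (LinearMap.separatingLeft_toLinearMap₂'_iff_det_ne_zero.1
      (by rw [hJ, Matrix.toLinearMap₂'_toMatrix']; exact (b_nondeg hQ).1))
  have h1 : (g : Matrix ι ι F) = J⁻¹ * ((g : Matrix ι ι F)⁻¹)ᵀ * J := by
    symm
    refine (congrArg (J⁻¹ * ((g : Matrix ι ι F)⁻¹)ᵀ * ·) hJg.symm).trans ?_
    have hgu : IsUnit (g : Matrix ι ι F).det := (Matrix.isUnit_iff_isUnit_det _).1 g.isUnit
    rw [show J⁻¹ * ((g : Matrix ι ι F)⁻¹)ᵀ * ((g : Matrix ι ι F)ᵀ * J * (g : Matrix ι ι F)) =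
      J⁻¹ * (((g : Matrix ι ι F) * (g : Matrix ι ι F)⁻¹)ᵀ) * J * (g : Matrix ι ι F) by
        rw [Matrix.transpose_mul]; simp only [mul_assoc], Matrix.mul_nonsing_inv _ hgu,
      Matrix.transpose_one, mul_one, Matrix.nonsing_inv_mul _ hJu, one_mul]
  rw [← charpoly_matrix_inv g.isUnit]
  conv_rhs => rw [h1]
  rw [show J = ((Matrix.nonsingInvUnit J hJu : (Matrix ι ι F)ˣ) : Matrix ι ι F) from rfl,
    ← Matrix.coe_units_inv, Matrix.charpoly_units_conj', Matrix.charpoly_transpose]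

theorem isAdm_charpoly (hQ : IsNondegenerateQuadraticForm Q) (hrF : (r : F) ≠ 0)
    {g : ↥(Cfsg.isometryGroup F Q)} (hg : g ^ r = 1) :
    IsAdm (RingHom.id F) r (Fintype.card ι) ((g : GL ι F) : Matrix ι ι F).charpoly :=
  ⟨Matrix.charpoly_monic _, Matrix.charpoly_natDegree_eq_dim _,
    conjRecip_charpoly_isometry hQ g.2, fun _ hP hPm hd => factor_dvd hrF (coe_pow_eq_one hg) hP hPm hd⟩

theorem exists_of_hasElt {χ : F[X]} (h : HasElt r Q χ) :
    ∃ g : ↥(Cfsg.isometryGroup F Q), g ^ r = 1 ∧ ((g : GL ι F) : Matrix ι ι F).charpoly = χ := by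
  obtain ⟨f, hf, hfr, hfc⟩ := h
  obtain ⟨A, rfl⟩ : ∃ A, f = Matrix.toLin' A := ⟨LinearMap.toMatrix' f, (Matrix.toLin'_toMatrix' f).symm⟩
  rw [← Matrix.toLin'_pow] at hfr
  have hAr : A ^ r = 1 := Matrix.toLin'.injective (by rw [hfr, Matrix.toLin'_one]; rfl)
  have hu : IsUnit A := IsUnit.of_mul_eq_one (A ^ (r - 1)) (by
    rw [← pow_succ', show r - 1 + 1 = r by have := hr.out.pos; omega, hAr])
  rw [Matrix.charpoly_toLin'] at hfc
  refine ⟨⟨hu.unit, fun u v => ?_⟩, Subtype.ext (Units.ext ?_), ?_⟩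
  · show Q ((hu.unit : Matrix ι ι F) *ᵥ u) = Q u
    rw [IsUnit.unit_spec, ← Matrix.toLin'_apply, hf]
  · rw [SubgroupClass.coe_pow, Units.val_pow_eq_pow_val]
    show (hu.unit : Matrix ι ι F) ^ r = 1
    rw [IsUnit.unit_spec, hAr]
  · show (hu.unit : Matrix ι ι F).charpoly = χ
    rw [IsUnit.unit_spec, hfc]

theorem hasElt_of_mem {g : ↥(Cfsg.isometryGroup F Q)} (hg : g ^ r = 1) :
    HasElt r Q ((g : GL ι F) : Matrix ι ι F).charpoly :=
  ⟨Matrix.toLin' ((g : GL ι F) : Matrix ι ι F), fun v => by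
    rw [Matrix.toLin'_apply]; exact g.2 v v, by
    rw [← Matrix.toLin'_pow, coe_pow_eq_one hg, Matrix.toLin'_one]; rfl,
    Matrix.charpoly_toLin' _⟩

/-- The classes of elements of order `r` correspond to the realised polynomials, minus one. -/
theorem card_classes (hQ : IsNondegenerateQuadraticForm Q) (hr2 : r ≠ 2) (p : ℕ) [Fact p.Prime]
    [CharP F p] (hrp : r ≠ p) :
    Nat.card {C : ConjClasses ↥(Cfsg.isometryGroup F Q) //
        ∃ g : ↥(Cfsg.isometryGroup F Q), ConjClasses.mk g = C ∧ orderOf g = r} =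
      Nat.card {χ : F[X] // IsAdm (RingHom.id F) r (Fintype.card ι) χ ∧ HasElt r Q χ} - 1 := by
  have hrF : (r : F) ≠ 0 := natCast_ne_zero_of_ne hrp
  set G := ↥(Cfsg.isometryGroup F Q)
  have h0 : Nat.card {C : ConjClasses G // ∃ g : G, ConjClasses.mk g = C ∧ g ^ r = 1} =
      Nat.card {χ : F[X] // IsAdm (RingHom.id F) r (Fintype.card ι) χ ∧ HasElt r Q χ} := by
    choose G' hG' hGc using fun χ : {χ : F[X] // IsAdm (RingHom.id F) r (Fintype.card ι) χ ∧
      HasElt r Q χ} => exists_of_hasElt χ.2.2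
    symm
    refine Nat.card_eq_of_bijective (fun χ => ⟨ConjClasses.mk (G' χ), G' χ, rfl, hG' χ⟩) ⟨?_, ?_⟩
    · intro a b h
      obtain ⟨u, hu⟩ := isConj_iff.1 (MonoidHom.map_isConj (Cfsg.isometryGroup F Q).subtype
        (ConjClasses.mk_eq_mk_iff_isConj.1 (congrArg Subtype.val h)))
      refine Subtype.ext ?_
      rw [← hGc a, ← hGc b, show ((G' b : G) : GL ι F) = u * ((G' a : G) : GL ι F) * u⁻¹ from hu.symm,
        Units.val_mul, Units.val_mul, Matrix.coe_units_inv, Matrix.charpoly_units_conj]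
    · rintro ⟨C, g, rfl, hg⟩
      refine ⟨⟨_, isAdm_charpoly hQ hrF hg, hasElt_of_mem hg⟩, Subtype.ext
        (ConjClasses.mk_eq_mk_iff_isConj.2 ?_)⟩
      set a := G' ⟨_, isAdm_charpoly hQ hrF hg, hasElt_of_mem hg⟩
      have hcop : ∀ k : G, k ^ r = 1 → (orderOf (k : GL ι F)).Coprime p := fun k hk => by
        rw [Subgroup.orderOf_coe]
        exact Nat.Coprime.coprime_dvd_left (orderOf_dvd_of_pow_eq_one hk)
          ((Nat.coprime_primes hr.out Fact.out).mpr hrp)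
      obtain ⟨x, hx⟩ := isConj_iff.1 (gl_isConj_of_charpoly_eq p (hcop a (hG' _)) (hcop g hg) (hGc _))
      obtain ⟨y, hy, hya⟩ := CfsgLib.Classical.Orth.exists_isometry_conj_of_conj hQ (a := (a : GL ι F))
        (b := (g : GL ι F)) (x := x) a.2 g.2 (k := r)
        (by rw [← SubgroupClass.coe_pow, hG' _]; rfl) (hr.out.odd_of_ne_two hr2) hrF
        (by rw [← hx, inv_mul_cancel_right])
      exact isConj_iff.2 ⟨⟨y, hy⟩, Subtype.ext (by
        show y * (a : GL ι F) * y⁻¹ = g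
        rw [hya, mul_inv_cancel_right])⟩
  rw [← h0]
  have hset : {C : ConjClasses G | ∃ g, ConjClasses.mk g = C ∧ orderOf g = r} =
      {C : ConjClasses G | ∃ g, ConjClasses.mk g = C ∧ g ^ r = 1} \ {ConjClasses.mk 1} := by
    ext C
    constructor
    · rintro ⟨g, rfl, hg⟩
      refine ⟨⟨g, rfl, by rw [← hg]; exact pow_orderOf_eq_one g⟩, fun h => ?_⟩
      have h2 : g = 1 := isConj_one_left.1 (ConjClasses.mk_eq_mk_iff_isConj.1 h)
      rw [h2, orderOf_one] at hg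
      exact hr.out.ne_one hg.symm
    · rintro ⟨⟨g, rfl, hg⟩, h⟩
      exact ⟨g, rfl, orderOf_eq_prime hg fun e => h (by rw [e]; exact rfl)⟩
  show Nat.card ↥{C : ConjClasses G | ∃ g, ConjClasses.mk g = C ∧ orderOf g = r} =
    Nat.card ↥{C : ConjClasses G | ∃ g, ConjClasses.mk g = C ∧ g ^ r = 1} - 1
  rw [Nat.card_coe_set_eq, Nat.card_coe_set_eq, hset, Set.ncard_sdiff_singleton_of_mem]
  exact ⟨1, rfl, one_pow r⟩

/-- An isometry without fixed vectors permutes the vectors of norm one freely. -/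
theorem dvd_card_of_hasElt (hQ : IsNondegenerateQuadraticForm Q) {χ : F[X]}
    (h : HasElt r Q χ) (hnd : ¬ (X - 1 : F[X]) ∣ χ) :
    r ∣ Nat.card {v : ι → F // Q v = 1} := by
  obtain ⟨g, hg, hgc⟩ := exists_of_hasElt h
  set H : Subgroup ↥(Cfsg.isometryGroup F Q) := Subgroup.zpowers g
  letI : MulAction H {v : ι → F // Q v = 1} :=
    { smul := fun h v => ⟨(((h : ↥(Cfsg.isometryGroup F Q)) : GL ι F) : Matrix ι ι F) *ᵥ v.1,
        ((h : ↥(Cfsg.isometryGroup F Q)).2 v.1 v.1).trans v.2⟩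
      one_smul := fun v => Subtype.ext (Matrix.one_mulVec _)
      mul_smul := fun a b v => Subtype.ext (by
        show _ = (((a : ↥(Cfsg.isometryGroup F Q)) : GL ι F) : Matrix ι ι F) *ᵥ (_ *ᵥ v.1)
        rw [Matrix.mulVec_mulVec]; rfl) }
  have hH : IsPGroup r H := by
    rintro ⟨x, hx⟩
    obtain ⟨k, rfl⟩ := Subgroup.mem_zpowers_iff.1 hx
    refine ⟨1, Subtype.ext ?_⟩
    show (g ^ k) ^ r ^ 1 = 1
    rw [pow_one, ← zpow_natCast, ← zpow_mul, mul_comm, zpow_mul, zpow_natCast, hg, one_zpow]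
  have h0 : IsEmpty (MulAction.fixedPoints H {v : ι → F // Q v = 1}) := by
    refine ⟨fun ⟨v, hv⟩ => ?_⟩
    have h1 : ((g : GL ι F) : Matrix ι ι F) *ᵥ v.1 = v.1 :=
      congrArg Subtype.val (hv ⟨g, Subgroup.mem_zpowers g⟩)
    apply hnd
    rw [← hgc, ← C_1, dvd_iff_isRoot, ← Matrix.charpoly_toLin',
      ← Module.End.hasEigenvalue_iff_isRoot_charpoly]
    refine Module.End.hasEigenvalue_of_hasEigenvector (x := v.1) ⟨?_, fun hv0 => ?_⟩
    · rw [Module.End.mem_eigenspace_iff, Matrix.toLin'_apply, h1, one_smul]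
    · have h2 := v.2
      rw [hv0, q_zero hQ] at h2
      exact zero_ne_one h2
  have h2 := hH.card_modEq_card_fixedPoints {v : ι → F // Q v = 1}
  rw [Nat.card_of_isEmpty (α := MulAction.fixedPoints H {v : ι → F // Q v = 1})] at h2
  exact Nat.modEq_zero_iff_dvd.1 h2

end CfsgLib.OrthPrimeClasses
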