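import Cfsg.Agent.OrthPrimeClasses.Orbits

/-!
A calculus of quadratic functions carrying an isometry with prescribed characteristic polynomial.
-/

set_option autoImplicit false
set_option linter.unusedSectionVars false

namespace CfsgLib.OrthPrimeClasses

open Polynomial Module CfsgLib.Classical.Semisimple CfsgLib.Spec53
open scoped _root_.Classical

variable {F : Type*} [Field F]

/-- `Q` has an isometry with `r`-th power one and characteristic polynomial `χ`. -/
def HasElt {V : Type*} [AddCommGroup V] [Module F V] [FiniteDimensional F V] (r : ℕ) (Q : V → F)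
    (χ : F[X]) : Prop :=
  ∃ f : Module.End F V, (∀ v, Q (f v) = Q v) ∧ f ^ r = 1 ∧ f.charpoly = χ

/-- Isometric quadratic functions. -/
def Similar {V W : Type*} [AddCommGroup V] [Module F V] [AddCommGroup W] [Module F W] (Q : V → F)
    (R : W → F) : Prop :=
  ∃ e : V ≃ₗ[F] W, ∀ v, R (e v) = Q v

variable {U V W Z : Type*} [AddCommGroup U] [Module F U] [AddCommGroup V] [Module F V]
  [AddCommGroup W] [Module F W] [AddCommGroup Z] [Module F Z]

/-- The orthogonal sum. -/
def osum (Q : V → F) (R : W → F) : V × W → F := fun v => Q v.1 + R v.2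

theorem Similar.of_equiv {Q : V → F} {R : W → F} (e : V ≃ₗ[F] W) (h : ∀ v, R (e v) = Q v) :
    Similar Q R := ⟨e, h⟩

theorem Similar.symm {Q : V → F} {R : W → F} (h : Similar Q R) : Similar R Q := by
  obtain ⟨e, he⟩ := h
  exact ⟨e.symm, fun w => by rw [← he, e.apply_symm_apply]⟩

theorem Similar.trans {Q : V → F} {R : W → F} {S : Z → F} (h : Similar Q R) (h' : Similar R S) :
    Similar Q S := by
  obtain ⟨e, he⟩ := h
  obtain ⟨e', he'⟩ := h'
  exact ⟨e.trans e', fun v => by rw [LinearEquiv.trans_apply, he', he]⟩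

theorem similar_comm (Q : U → F) (R : V → F) : Similar (osum Q R) (osum R Q) :=
  Similar.of_equiv (LinearEquiv.prodComm F U V) fun v => by simp [osum, add_comm]

/-- The identity of `U × V × W` regrouped. -/
theorem similar_assoc (Q : U → F) (R : V → F) (S : W → F) :
    Similar (osum (osum Q R) S) (osum Q (osum R S)) :=
  Similar.of_equiv (LinearEquiv.prodAssoc F U V W) fun v => by simp [osum, add_assoc]

theorem Similar.sum_left {Q : V → F} {Q' : W → F} (h : Similar Q Q') (R : U → F) :
    Similar (osum Q R) (osum Q' R) := by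
  obtain ⟨e, he⟩ := h
  exact Similar.of_equiv (LinearEquiv.prodCongr e (LinearEquiv.refl F U)) fun v => by simp [osum, he]

theorem Similar.sum_right {Q : V → F} {Q' : W → F} (h : Similar Q Q') (R : U → F) :
    Similar (osum R Q) (osum R Q') := by
  obtain ⟨e, he⟩ := h
  exact Similar.of_equiv (LinearEquiv.prodCongr (LinearEquiv.refl F U) e) fun v => by simp [osum, he]

variable [FiniteDimensional F U] [FiniteDimensional F V] [FiniteDimensional F W]

theorem HasElt.map {r : ℕ} {Q : V → F} {R : W → F} {χ : F[X]} (h : HasElt r Q χ)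
    (hs : Similar Q R) : HasElt r R χ := by
  obtain ⟨f, hf, hfr, hfc⟩ := h
  obtain ⟨e, he⟩ := hs
  refine ⟨e.conj f, fun w => ?_, ?_, by rw [LinearEquiv.charpoly_conj, hfc]⟩
  · rw [LinearEquiv.conj_apply_apply, he, hf, ← he, e.apply_symm_apply]
  · have h1 : ∀ k : ℕ, (e.conj f) ^ k = e.conj (f ^ k) := by
      intro k
      induction k with
      | zero =>
        rw [pow_zero, pow_zero]
        exact (LinearMap.ext fun w => by simp [LinearEquiv.conj_apply_apply]).symm
      | succ k ih => rw [pow_succ, pow_succ, ih, Module.End.mul_eq_comp, Module.End.mul_eq_comp, LinearEquiv.conj_comp]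
    rw [h1, hfr]
    exact LinearMap.ext fun w => by simp [LinearEquiv.conj_apply_apply]

theorem HasElt.sum {r : ℕ} {Q : V → F} {R : W → F} {χ ψ : F[X]} (h : HasElt r Q χ)
    (h' : HasElt r R ψ) : HasElt r (osum Q R) (χ * ψ) := by
  obtain ⟨f, hf, hfr, hfc⟩ := h
  obtain ⟨g, hg, hgr, hgc⟩ := h'
  refine ⟨f.prodMap g, fun v => by simp [osum, hf, hg], ?_, by rw [LinearMap.charpoly_prodMap, hfc, hgc]⟩
  have h1 : ∀ k : ℕ, (f.prodMap g) ^ k = (f ^ k).prodMap (g ^ k) := by
    intro k
    induction k with
    | zero => exact LinearMap.ext fun v => by simp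
    | succ k ih => rw [pow_succ, pow_succ, pow_succ, ih]; exact LinearMap.ext fun v => by simp
  rw [h1, hfr, hgr]
  exact LinearMap.ext fun v => by simp

theorem hasElt_one (r : ℕ) (Q : V → F) : HasElt r Q ((X - 1) ^ finrank F V) := by
  refine ⟨1, fun v => rfl, one_pow r, ?_⟩
  exact LinearMap.charpoly_one

/-- The hyperbolic form on `Fᵏ × Fᵏ`. -/
def hyp (k : ℕ) : (Fin k → F) × (Fin k → F) → F := fun v => dotProduct v.1 v.2

/-- A form and its negative sum to a hyperbolic form. -/
theorem exists_double (Q : QuadraticForm F V)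
    (hnd : ∀ v, (∀ w, QuadraticMap.polar Q v w = 0) → v = 0) :
    ∃ e : (V × V) ≃ₗ[F] ((Fin (finrank F V) → F) × (Fin (finrank F V) → F)),
      ∀ v, hyp (finrank F V) (e v) = osum (fun v => Q v) (fun v => - Q v) v := by
  set b := Module.finBasis F V
  set C : LinearMap.BilinMap F V F := Q.toBilin b with hC
  have hCd : ∀ d, C d d = Q d := fun d => by
    rw [hC, ← LinearMap.BilinMap.toQuadraticMap_apply, QuadraticMap.toQuadraticMap_toBilin]
  set B := QuadraticMap.polarBilin Q
  let co : Fin (finrank F V) → (V × V) →ₗ[F] F := fun i =>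
    (C.flip (b i)).comp (LinearMap.fst F V V - LinearMap.snd F V V) +
      (B.flip (b i)).comp (LinearMap.snd F V V)
  let e : (V × V) →ₗ[F] ((Fin (finrank F V) → F) × (Fin (finrank F V) → F)) :=
    LinearMap.prod (b.equivFun.toLinearMap.comp (LinearMap.fst F V V - LinearMap.snd F V V))
      (LinearMap.pi co)
  have he : ∀ z z' : V, hyp (finrank F V) (e (z, z')) = C (z - z') (z - z') + B z' (z - z') := by
    intro z z'
    have key : ∀ (L : V →ₗ[F] F) (d : V), L d = ∑ i, b.equivFun d i * L (b i) := fun L d => by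
      conv_lhs => rw [← b.sum_equivFun d]
      simp only [map_sum, map_smul, smul_eq_mul]
    rw [← LinearMap.add_apply, key]
    rfl
  have hinj : Function.Injective e := by
    rw [injective_iff_map_eq_zero]
    rintro ⟨z, z'⟩ h0
    have h1 : z - z' = 0 := b.equivFun.injective (by
      rw [map_zero]; exact congrArg Prod.fst h0)
    have hz : z = z' := sub_eq_zero.1 h1
    subst hz
    have h2 : ∀ i, B z (b i) = 0 := fun i => by
      have h3 := congrFun (congrArg Prod.snd h0) i
      simpa [e, co, h1] using h3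
    have h4 : z = 0 := hnd z fun w => by
      have : B z = 0 := b.ext fun i => by simpa using h2 i
      exact LinearMap.congr_fun this w
    rw [h4]; rfl
  have hsurj : Function.Surjective e :=
    (LinearMap.injective_iff_surjective_of_finrank_eq_finrank (by simp)).1 hinj
  refine ⟨LinearEquiv.ofBijective e ⟨hinj, hsurj⟩, fun v => ?_⟩
  obtain ⟨z, z'⟩ := v
  show hyp (finrank F V) (e (z, z')) = _
  rw [he, hCd, QuadraticMap.polarBilin_apply_apply, QuadraticMap.polar]
  simp only [osum, show z' + (z - z') = z by abel]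
  ring

theorem similar_hyp_add (k l : ℕ) :
    Similar (osum (hyp k) (hyp l) : _ → F) (hyp (k + l)) := by
  let S : (k' l' : ℕ) → ((Fin k' → F) × (Fin l' → F)) ≃ₗ[F] (Fin (k' + l') → F) := fun k' l' =>
    (LinearEquiv.sumArrowLequivProdArrow (Fin k') (Fin l') F F).symm.trans
      (LinearEquiv.funCongrLeft F F finSumFinEquiv.symm)
  refine Similar.of_equiv
    ((LinearEquiv.prodProdProdComm F _ _ _ _).trans (LinearEquiv.prodCongr (S k l) (S k l))) fun v => ?_
  simp [hyp, osum, dotProduct, S, Fin.sum_univ_add, LinearEquiv.funCongrLeft_apply,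
    LinearMap.funLeft_apply]

variable [Fintype F] {r : ℕ} [hr : Fact r.Prime]

theorem charpoly_matrix_inv {n : Type*} [Fintype n] [DecidableEq n] {A : Matrix n n F}
    (hA : IsUnit A) : A⁻¹.charpoly = conjRecip (RingHom.id F) A.charpoly := by
  rw [Matrix.charpoly_inv _ hA, ← Matrix.reverse_charpoly]
  unfold conjRecip
  rw [Ring.inverse_eq_inv', Matrix.det_eq_sign_charpoly_coeff A, Polynomial.map_id, RingHom.id_apply]
  rw [show ((-1 : F[X]) ^ Fintype.card n) = Polynomial.C ((-1 : F) ^ Fintype.card n) by simp,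
    ← Polynomial.C_mul, mul_inv, ← mul_assoc, ← inv_pow, inv_neg, inv_one, ← mul_pow, neg_one_mul,
    neg_neg, one_pow, one_mul]

/-- Hyperbolic spaces carry every polynomial with its dual. -/
theorem hasElt_hyp (hrF : (r : F) ≠ 0) {k : ℕ} {P : F[X]} (hm : P.Monic) (hdeg : P.natDegree = k)
    (hfac : ∀ T : F[X], Irreducible T → T.Monic → T ∣ P → T ∣ X ^ r - 1) :
    HasElt r (hyp k) (P * conjRecip (RingHom.id F) P) := by
  obtain ⟨p, hp⟩ := CharP.exists F
  haveI : Fact p.Prime := ⟨CharP.char_is_prime F p⟩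
  obtain ⟨M, hM⟩ := exists_matrix_charpoly_eq hm hdeg
  have hu : IsUnit M := by
    rw [Matrix.isUnit_iff_isUnit_det, isUnit_iff_ne_zero, det_eq_coeff, hM]
    refine mul_ne_zero (pow_ne_zero _ (neg_ne_zero.mpr one_ne_zero)) fun h0 => ?_
    have h1 := hfac X irreducible_X monic_X (X_dvd_iff.mpr h0)
    rw [X_dvd_iff] at h1
    simp [hr.out.ne_zero.symm] at h1
  obtain ⟨N, hN, hchar⟩ := exists_pow_card_pow_coprime p hu.unit
  set g : GL (Fin k) F := hu.unit ^ Fintype.card F ^ N
  rw [IsUnit.unit_spec, hM] at hchar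
  have hgr : (g : Matrix (Fin k) (Fin k) F) ^ r = 1 := by
    refine Matrix.toLin'.injective ?_
    have h := aeval_eq_zero_of_forall_dvd (gl_isSemisimple p hN) (Q := X ^ r - 1)
      (fun T hT hTm hd => hfac T hT hTm (by rwa [Matrix.charpoly_toLin', hchar] at hd))
    rw [← toLin'_pow, Matrix.toLin'_one]
    simpa [sub_eq_zero, Module.End.one_eq_id] using h
  set A : Matrix (Fin k) (Fin k) F := (g : Matrix (Fin k) (Fin k) F)
  have hinv : A⁻¹ = A ^ (r - 1) := Matrix.inv_eq_right_inv (by
    rw [← pow_succ', show r - 1 + 1 = r by have := hr.out.pos; omega, hgr])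
  refine ⟨(Matrix.toLin' A).prodMap (Matrix.toLin' (A⁻¹).transpose), fun v => ?_, ?_, ?_⟩
  · show dotProduct (A.mulVec v.1) ((A⁻¹).transpose.mulVec v.2) = dotProduct v.1 v.2
    rw [Matrix.dotProduct_mulVec, Matrix.vecMul_transpose, Matrix.mulVec_mulVec,
      Matrix.nonsing_inv_mul _ ((Matrix.isUnit_iff_isUnit_det _).1 g.isUnit), Matrix.one_mulVec]
  · have h1 : ∀ j : ℕ, ((Matrix.toLin' A).prodMap (Matrix.toLin' (A⁻¹).transpose)) ^ j =
        (Matrix.toLin' (A ^ j)).prodMap (Matrix.toLin' ((A⁻¹) ^ j).transpose) := by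
      intro j
      induction j with
      | zero => exact LinearMap.ext fun v => by simp
      | succ j ih =>
        rw [pow_succ, ih, pow_succ A j, pow_succ' A⁻¹ j, Matrix.transpose_mul, Matrix.toLin'_mul,
          Matrix.toLin'_mul]
        exact LinearMap.ext fun v => by simp
    rw [h1, hgr, hinv, ← pow_mul, mul_comm, pow_mul, hgr, one_pow]
    exact LinearMap.ext fun v => by simp
  · rw [LinearMap.charpoly_prodMap, Matrix.charpoly_toLin', Matrix.charpoly_toLin',
      Matrix.charpoly_transpose, charpoly_matrix_inv g.isUnit, hchar]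

end CfsgLib.OrthPrimeClasses
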