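import Cfsg.Agent.SelfDualCount.Poly

/-!
Self-reciprocal orbit polynomials of `r`-th roots of unity, and the count of self-reciprocal
polynomials with all roots `r`-th roots of unity.
-/

set_option autoImplicit false
set_option linter.unusedSectionVars false

namespace CfsgLib.OrthPrimeClasses

open Polynomial CfsgLib.Classical.Semisimple CfsgLib.Spec53 CfsgLib.SelfDualCount
open scoped _root_.Classical

variable {F : Type*} [Field F] [Fintype F] {r : ℕ} [hr : Fact r.Prime]

theorem id_invol : ∀ x : F, RingHom.id F (RingHom.id F x) = x := fun _ => rfl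

/-- An orbit polynomial is self-reciprocal iff `-1` is a power of `q` modulo `r`. -/
theorem conjRecip_orbit_iff (hrF : (r : F) ≠ 0) {f : F[X]} (hf : f ∈ orbitPolys F r) :
    conjRecip (RingHom.id F) f = f ↔ ∃ k : ℕ, (Fintype.card F : ZMod r) ^ k = -1 := by
  obtain ⟨hi, hm, hd⟩ := (mem_orbitPolys f).1 hf
  haveI := Fact.mk hi
  set E := AdjoinRoot f
  haveI : NeZero (r : E) := ⟨by rw [← map_natCast (algebraMap F E)]; exact (_root_.map_ne_zero _).2 hrF⟩
  set ζ : E := AdjoinRoot.root f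
  have hζf : aeval ζ f = 0 := by
    rw [AdjoinRoot.aeval_eq]; exact AdjoinRoot.mk_self
  have hζ : IsPrimitiveRoot ζ r := by
    rw [← Polynomial.isRoot_cyclotomic_iff, IsRoot.def, ← map_cyclotomic r (algebraMap F E),
      eval_map, ← aeval_def]
    obtain ⟨c, hc⟩ := hd
    rw [hc, map_mul, hζf, zero_mul]
  have hpow : ∀ a b : ℕ, ζ ^ a = ζ ^ b ↔ (a : ZMod r) = (b : ZMod r) := fun a b => by
    rw [ZMod.natCast_eq_natCast_iff, (hζ.isOfFinOrder hr.out.ne_zero).pow_eq_pow_iff_modEq,
      ← hζ.eq_orderOf]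
  have hroot : ∀ k : ℕ, aeval (ζ ^ (Fintype.card F ^ k)) f = 0 := by
    intro k
    induction k with
    | zero => rwa [pow_zero, pow_one]
    | succ k ih =>
      rw [pow_succ, pow_mul, ← expand_aeval, FiniteField.expand_card, map_pow, ih,
        zero_pow Fintype.card_ne_zero]
  have hdeg : f.natDegree = orderOf (Fintype.card F : ZMod r) :=
    natDegree_of_dvd_cyclotomic hrF hi hd
  have hall : ∀ y : E, aeval y f = 0 → ∃ k, y = ζ ^ (Fintype.card F ^ k) := by
    intro y hy
    by_contra hne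
    push Not at hne
    set S := (Finset.range f.natDegree).image fun k => ζ ^ (Fintype.card F ^ k)
    have hS : S.card = f.natDegree := by
      rw [Finset.card_image_of_injOn, Finset.card_range]
      intro a ha b hb hab
      simp only [Finset.coe_range, Set.mem_Iio] at ha hb
      have := (hpow _ _).1 hab
      rw [Nat.cast_pow, Nat.cast_pow] at this
      exact pow_injOn_Iio_orderOf (by rw [← hdeg]; exact ha) (by rw [← hdeg]; exact hb) this
    have hsub : insert y S ⊆ (f.map (algebraMap F E)).roots.toFinset := by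
      intro z hz
      rw [Multiset.mem_toFinset, mem_roots (map_ne_zero hm.ne_zero), IsRoot.def, eval_map,
        ← aeval_def]
      rcases Finset.mem_insert.1 hz with rfl | hz
      · exact hy
      · obtain ⟨k, -, rfl⟩ := Finset.mem_image.1 hz
        exact hroot k
    have h1 := (Finset.card_le_card hsub).trans
      ((Multiset.toFinset_card_le _).trans (card_roots' _))
    rw [natDegree_map, Finset.card_insert_of_notMem (fun hy' => by
      obtain ⟨k, -, hk⟩ := Finset.mem_image.1 hy'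
      exact hne k hk.symm), hS] at h1
    omega
  set y : E := ζ⁻¹ with hydef
  have hy : aeval y (conjRecip (RingHom.id F) f) = 0 := by
    haveI : Invertible ζ := invertibleOfNonzero (hζ.ne_zero hr.out.ne_zero)
    unfold conjRecip
    rw [map_mul, aeval_def y (Polynomial.reverse _), hydef, ← invOf_eq_inv,
      (eval₂_reverse_eq_zero_iff (algebraMap F E) ζ _).2 (by
        rw [Polynomial.map_id, ← aeval_def]; exact hζf), mul_zero]
  have hyiff : ∀ k : ℕ, y = ζ ^ (Fintype.card F ^ k) ↔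
      (Fintype.card F : ZMod r) ^ k = -1 := fun k => by
    rw [hydef, inv_eq_iff_eq_inv, ← mul_eq_one_iff_eq_inv₀ (pow_ne_zero _ (hζ.ne_zero hr.out.ne_zero)),
      ← pow_succ', ← pow_zero ζ, hpow, Nat.cast_add, Nat.cast_pow, Nat.cast_zero, Nat.cast_one,
      add_eq_zero_iff_eq_neg]
  have hi' := (mem_orbitPolys _).1 (dual_mem_orbit id_invol hf)
  constructor
  · intro hfix
    rw [hfix] at hy
    obtain ⟨k, hk⟩ := hall y hy
    exact ⟨k, (hyiff k).1 hk⟩
  · rintro ⟨k, hk⟩
    have hyf : aeval y f = 0 := by rw [(hyiff k).2 hk]; exact hroot k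
    exact (minpoly.eq_of_irreducible_of_monic hi'.1 hy hi'.2.1).trans
      (minpoly.eq_of_irreducible_of_monic hi hyf hm).symm

theorem orderOf_card_pos' (hrF : (r : F) ≠ 0) : 0 < orderOf (Fintype.card F : ZMod r) := by
  have h := card_orbitPolys_mul (F := F) (r := r) hrF
  have := hr.out.two_le
  exact Nat.pos_of_ne_zero fun h0 => by rw [h0, mul_zero] at h; omega

theorem pow_half_eq_neg_one {i : ℕ} (hrF : (r : F) ≠ 0) (hi : i = orderOf (Fintype.card F : ZMod r))
    (he : Even i) : (Fintype.card F : ZMod r) ^ (i / 2) = -1 := by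
  have hpos := orderOf_card_pos' (F := F) (r := r) hrF
  obtain ⟨k, hk⟩ := he
  have h1 : ((Fintype.card F : ZMod r) ^ k) * ((Fintype.card F : ZMod r) ^ k) = 1 := by
    rw [← pow_add, ← hk, hi, pow_orderOf_eq_one]
  rw [show i / 2 = k by omega]
  rcases mul_self_eq_one_iff.1 h1 with h | h
  · exfalso
    have := Nat.le_of_dvd (by omega) (orderOf_dvd_of_pow_eq_one h)
    omega
  · exact h

theorem exists_pow_eq_neg_one_iff {i : ℕ} (hr2 : r ≠ 2) (hrF : (r : F) ≠ 0)
    (hi : i = orderOf (Fintype.card F : ZMod r)) :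
    (∃ k : ℕ, (Fintype.card F : ZMod r) ^ k = -1) ↔ Even i := by
  refine ⟨?_, fun he => ⟨i / 2, pow_half_eq_neg_one hrF hi he⟩⟩
  rintro ⟨k, hk⟩
  by_contra ho
  rw [Nat.not_even_iff_odd] at ho
  have h2 : (Fintype.card F : ZMod r) ^ (k * 2) = 1 := by rw [pow_mul, hk, neg_one_sq]
  have h3 : (Fintype.card F : ZMod r) ^ k = 1 := orderOf_dvd_iff_pow_eq_one.1
    (hi ▸ (Nat.coprime_two_right.2 ho).dvd_of_dvd_mul_right (hi ▸ orderOf_dvd_of_pow_eq_one h2))
  have h4 : (2 : ZMod r) = 0 := by rw [← one_add_one_eq_two]; nth_rw 1 [← h3]; rw [hk, neg_add_cancel]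
  rw [show (2 : ZMod r) = ((2 : ℕ) : ZMod r) from Nat.cast_two.symm, ZMod.natCast_eq_zero_iff] at h4
  exact hr2 ((Nat.prime_dvd_prime_iff_eq hr.out Nat.prime_two).1 h4)

/-- The atoms for the identity: their number and common degree. -/
theorem atoms_spec {i t : ℕ} (hr2 : r ≠ 2) (hrF : (r : F) ≠ 0)
    (hi : i = orderOf (Fintype.card F : ZMod r)) (ht : t * i = r - 1) :
    (atoms (RingHom.id F) r).card = (if Odd i then t / 2 else t) ∧
      ∀ A ∈ atoms (RingHom.id F) r, A.natDegree = if Odd i then 2 * i else i := by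
  have hfix : ∀ P ∈ orbitPolys F r, conjRecip (RingHom.id F) P = P ↔ Even i := fun P hP => by
    rw [conjRecip_orbit_iff hrF hP, exists_pow_eq_neg_one_iff hr2 hrF hi]
  have hdeg : ∀ P ∈ orbitPolys F r, P.natDegree = i := fun P hP => by
    rw [natDegree_of_dvd_cyclotomic hrF ((mem_orbitPolys P).1 hP).1 ((mem_orbitPolys P).1 hP).2.2, hi]
  have hcard : (orbitPolys F r).card = t := by
    have h := card_orbitPolys_mul (F := F) (r := r) hrF
    rw [← hi, ← ht] at h
    exact Nat.eq_of_mul_eq_mul_right (hi ▸ orderOf_card_pos' hrF) h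
  split_ifs with ho
  · have hmv : ∀ P ∈ orbitPolys F r, conjRecip (RingHom.id F) P ≠ P := fun P hP h =>
      Nat.not_even_iff_odd.2 ho ((hfix P hP).1 h)
    refine ⟨?_, fun A hA => ?_⟩
    · have h := card_atoms_moved id_invol hmv
      omega
    · obtain ⟨P, hP, rfl⟩ := Finset.mem_image.1 hA
      rw [atom, if_neg (hmv P hP), ((mem_orbitPolys P).1 hP).2.1.natDegree_mul
        ((mem_orbitPolys _).1 (dual_mem_orbit id_invol hP)).2.1, hdeg P hP,
        hdeg _ (dual_mem_orbit id_invol hP), two_mul]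
  · have hf : ∀ P ∈ orbitPolys F r, conjRecip (RingHom.id F) P = P := fun P hP =>
      (hfix P hP).2 (Nat.not_odd_iff_even.1 ho)
    refine ⟨by rw [card_atoms_fixed id_invol hf, hcard], fun A hA => ?_⟩
    obtain ⟨P, hP, rfl⟩ := Finset.mem_image.1 hA
    rw [atom, if_pos (hf P hP), hdeg P hP]

theorem isAdm_mul_X_sub_one {σ : F →+* F} {n : ℕ} {χ : F[X]} (h : IsAdm σ r n χ) :
    IsAdm σ r (n + 1) (χ * (X - 1)) := by
  obtain ⟨hm, hd, hs, hf⟩ := h
  have hX : (X - 1 : F[X]).Monic := by rw [← C_1]; exact monic_X_sub_C 1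
  refine ⟨hm.mul hX, ?_, ?_, fun P hP hPm hPd => ?_⟩
  · rw [hm.natDegree_mul hX, hd, ← C_1, natDegree_X_sub_C]
  · rw [conjRecip_mul, hs, SelfDualCount.conjRecip_X_sub_one]
  · rcases hP.prime.dvd_or_dvd hPd with h | h
    · exact hf P hP hPm h
    · exact h.trans (by rw [← cyclotomic_prime_mul_X_sub_one]; exact dvd_mul_left _ _)

theorem coeff_zero_ne_zero_of_isAdm {σ : F →+* F} {n : ℕ} {χ : F[X]} (h : IsAdm σ r n χ) :
    χ.coeff 0 ≠ 0 := fun h0 => by
  have h1 := h.2.2.2 X irreducible_X monic_X (X_dvd_iff.2 h0)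
  rw [X_dvd_iff] at h1
  simp [hr.out.ne_zero.symm] at h1

/-- Those with root one correspond to the admissible polynomials one degree lower. -/
theorem card_adm_dvd {σ : F →+* F} (n : ℕ) :
    Nat.card {χ : F[X] // IsAdm σ r (n + 1) χ ∧ (X - 1) ∣ χ} =
      Nat.card {χ : F[X] // IsAdm σ r n χ} := by
  have hX : (X - 1 : F[X]).Monic := by rw [← C_1]; exact monic_X_sub_C 1
  symm
  refine Nat.card_eq_of_bijective (fun χ => ⟨χ.1 * (X - 1), isAdm_mul_X_sub_one χ.2, dvd_mul_left _ _⟩)
    ⟨fun a b h => Subtype.ext (mul_right_cancel₀ hX.ne_zero (congrArg Subtype.val h)), ?_⟩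
  rintro ⟨χ, ⟨hm, hd, hs, hf⟩, c, rfl⟩
  rw [mul_comm] at hm hd hs
  have hcm : c.Monic := hX.of_mul_monic_right hm
  refine ⟨⟨c, hcm, ?_, ?_, fun P hP hPm hPd => hf P hP hPm (hPd.mul_left _)⟩,
    Subtype.ext (mul_comm _ _)⟩
  · rw [hcm.natDegree_mul hX, ← C_1, natDegree_X_sub_C] at hd
    omega
  · rw [conjRecip_mul, SelfDualCount.conjRecip_X_sub_one] at hs
    exact mul_right_cancel₀ hX.ne_zero hs

end CfsgLib.OrthPrimeClasses
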